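import Groth.Agent.Lib.PCohQC13.Slice
import Groth.Agent.Lib.CohDense13.Basic
import Groth.Agent.Lib.QcohEt15.Kernel
import Groth.Agent.Lib.QcohEt15.Presented

/-! Cohomology sheaves of pseudo-coherent objects are quasi-coherent. -/

universe u

open CategoryTheory CategoryTheory.Limits AlgebraicGeometry Opposite TensorProduct

set_option linter.style.haveILetI false
set_option backward.isDefEq.respectTransparency false
set_option backward.isDefEq.respectTransparency.types false

noncomputable section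

namespace Groth.Agent.PCohQC13

open AlgSp Groth.Agent.QcohEt15 Groth.Agent.CohDense13

attribute [local instance] HasDerivedCategory.standard

variable {S : Scheme.{u}} {X : Sp S}

/-- Goodness passes to retracts. -/
theorem good_retract {M N : ModEt X} (i : M ⟶ N) (p : N ⟶ M) (h : i ≫ p = 𝟙 M) {E : EtOver X}
    (hN : Good N E) : Good M E := by
  intro E' _ g
  have hp : ∀ (Z : EtOver X) (m : sectModEt M Z), appₗ p Z (appₗ i Z m) = m := fun Z m =>
    congrArg (fun q : M ⟶ M => q.val.app (op Z) m) h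
  have hc : (appₗ p E) ∘ₗ (appₗ i E) = LinearMap.id := LinearMap.ext (hp E)
  refine ⟨fun a b e => ?_, fun w => ?_⟩
  · have h1 := congrArg (appₗ i E') e
    rw [lift_appₗ_id, lift_appₗ_id] at h1
    have h2 := congrArg ((appₗ p E).lTensor (Tw g)) ((hN g).1 h1)
    rwa [← LinearMap.lTensor_comp_apply, ← LinearMap.lTensor_comp_apply, hc, LinearMap.lTensor_id_apply,
      LinearMap.lTensor_id_apply] at h2
  · obtain ⟨z, hz⟩ := (hN g).2 (appₗ i E' w)
    refine ⟨(appₗ p E).lTensor (Tw g) z, ?_⟩
    rw [← lift_appₗ_id, hz, hp]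

theorem good_of_iso {M N : ModEt X} (e : M ≅ N) {E : EtOver X} (hN : Good N E) : Good M E :=
  good_retract e.hom e.inv e.hom_inv_id hN

/-- Homology of a short complex of good modules is good. -/
theorem good_homology (T : ShortComplex (ModEt X))
    (h1 : ∀ (Z : EtOver X) [IsAffine Z.obj.left.left], Good T.X₁ Z)
    (h2 : ∀ (Z : EtOver X) [IsAffine Z.obj.left.left], Good T.X₂ Z)
    (h3 : ∀ (Z : EtOver X) [IsAffine Z.obj.left.left], Good T.X₃ Z)
    (E : EtOver X) [IsAffine E.obj.left.left] : Good T.homology E := by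
  have hk : ∀ (Z : EtOver X) [IsAffine Z.obj.left.left], Good T.cycles Z := fun Z _ =>
    good_of_iso T.cyclesIsoKernel (good_kernel T.g (h2 Z) (h3 Z))
  exact good_of_iso (T.homologyIsCokernel.coconePointUniqueUpToIso (cokernelIsCokernel T.toCycles))
    (cokernel_sections T.toCycles h1 hk).1

theorem bc_of_inv {M : ModEt X} {A B : EtOver X} (a : A ⟶ B) (b : B ⟶ A) (h1 : a ≫ b = 𝟙 A) (h2 : b ≫ a = 𝟙 B) :
    BC M a := by
  have hsurj : ∀ z : Tw a ⊗[Γo B] sectModEt M B, ∃ m, z = (Tw.mk a 1) ⊗ₜ[Γo B] m := by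
    intro z
    induction z using TensorProduct.induction_on with
    | zero => exact ⟨0, (tmul_zero _ _).symm⟩
    | tmul t n =>
      refine ⟨γ b (Tw.out t) • n, ?_⟩
      rw [← smul_tmul]
      congr 1
      show Tw.out t = γ a (γ b (Tw.out t)) * 1
      rw [mul_one, ← RingHom.comp_apply, ← γ_comp, h1, γ_id]
    | add x y hx hy =>
      obtain ⟨m, rfl⟩ := hx
      obtain ⟨n, rfl⟩ := hy
      exact ⟨m + n, (tmul_add _ _ _).symm⟩
  have hl : ∀ m : sectModEt M B, lift a (LinearMap.id : sectModEt M B →ₗ[Γo B] _) ((Tw.mk a 1) ⊗ₜ[Γo B] m) = res M a m := by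
    intro m
    rw [lift_tmul]
    exact one_smul _ _
  refine ⟨fun x y e => ?_, fun w => ⟨(Tw.mk a 1) ⊗ₜ[Γo B] res M b w, ?_⟩⟩
  · obtain ⟨m, rfl⟩ := hsurj x
    obtain ⟨n, rfl⟩ := hsurj y
    rw [hl, hl] at e
    have := congrArg (res M b) e
    rw [← res_comp, ← res_comp, h2, res_id, res_id] at this
    rw [this]
  · rw [hl, ← res_comp, h1, res_id]

variable (V : EtOver X)

theorem good_R_free (n : ℕ) (E : EtOver (hV V)) [IsAffine E.obj.left.left] :
    Good ((R V).obj (SheafOfModules.free (R := OEtOn V) (ULift.{u + 1} (Fin n)))) E :=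
  good_of_iso (SheafOfModules.mapFreeIso (R V) (ULift.{u + 1} (Fin n)) (Iso.refl _)).symm (good_free E)

theorem good_R_homology (P : CochainComplex (ModEtOn V) ℤ) (hP : DCoh.IsStrictlyPerfectMod (OEtOn V) P) (i : ℤ)
    (E : EtOver (hV V)) [IsAffine E.obj.left.left] : Good ((R V).obj (P.homology i)) E := by
  have hX : ∀ (j : ℤ) (Z : EtOver (hV V)) [IsAffine Z.obj.left.left], Good ((R V).obj (P.X j)) Z := fun j Z _ => by
    obtain ⟨n, a, b, hab⟩ := hP.2 j
    exact good_retract ((R V).map a) ((R V).map b) (by rw [← Functor.map_comp, hab, CategoryTheory.Functor.map_id])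
      (good_R_free V n Z)
  exact good_of_iso ((P.sc i).mapHomologyIso (R V)).symm (good_homology ((P.sc i).map (R V))
    (fun Z _ => hX _ Z) (fun Z _ => hX _ Z) (fun Z _ => hX _ Z) E)

/-- A module of the slice on the site of `V`. -/
abbrev RM (M : ModEt X) : ModEt (hV V) := (R V).obj ((resModEt V).obj M)

/-- Sections of a transported module are sections on the slice. -/
def a₁ (N : ModEtOn V) (Z : EtOver (hV V)) : sectModEt ((R V).obj N) Z ≃+ N.val.obj (op ((H V).obj Z)) where
  toFun m := m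
  invFun m := m
  left_inv _ := rfl
  right_inv _ := rfl
  map_add' _ _ := rfl

/-- Sections on the slice are sections. -/
def a₂ (M : ModEt X) (A : Over V) : ((resModEt V).obj M).val.obj (op A) ≃+ sectModEt M A.left where
  toFun m := m
  invFun m := m
  left_inv _ := rfl
  right_inv _ := rfl
  map_add' _ _ := rfl

/-- Sections of the transported module. -/
def σ (M : ModEt X) (Z : EtOver (hV V)) : sectModEt (RM V M) Z ≃+ sectModEt M (bObj V Z) :=
  (a₁ V ((resModEt V).obj M) Z).trans (a₂ V M ((H V).obj Z))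

theorem σ_smul (M : ModEt X) (Z : EtOver (hV V)) (r : Γo Z) (m : sectModEt (RM V M) Z) :
    σ V M Z (r • m) = (show Γo (bObj V Z) from r) • σ V M Z m := by
  have h1 : a₁ V ((resModEt V).obj M) Z (r • m) =
      (upΓ Z r : (OEtOn V).obj.obj (op ((H V).obj Z))) • a₁ V ((resModEt V).obj M) Z m := rfl
  show a₂ V M ((H V).obj Z) (a₁ V ((resModEt V).obj M) Z (r • m)) = _
  rw [h1]
  rfl

theorem τ_smul (M : ModEt X) (Z : EtOver (hV V)) (r : Γo Z) (m : sectModEt M (bObj V Z)) :
    (σ V M Z).symm ((show Γo (bObj V Z) from r) • m) = r • (σ V M Z).symm m := by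
  apply (σ V M Z).injective
  rw [σ_smul, AddEquiv.apply_symm_apply, AddEquiv.apply_symm_apply]

theorem σ_res (M : ModEt X) {Z E : EtOver (hV V)} (g : E ⟶ Z) (m : sectModEt (RM V M) Z) :
    σ V M E (res (RM V M) g m) = res M (bHom V g) (σ V M Z m) := by
  have h1 : a₁ V ((resModEt V).obj M) E (res (RM V M) g m) =
      (((resModEt V).obj M).val.presheaf.map ((H V).map g).op).hom (a₁ V ((resModEt V).obj M) Z m) := rfl
  show a₂ V M ((H V).obj E) (a₁ V ((resModEt V).obj M) E (res (RM V M) g m)) = _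
  rw [h1]
  rfl

/-- Functions upstairs. -/
def twU {Z E : EtOver (hV V)} (g : E ⟶ Z) (a : Tw (bHom V g)) : Tw g :=
  let x : Γo (bObj V E) := Tw.out a
  Tw.mk g x

/-- Functions downstairs. -/
def twV {Z E : EtOver (hV V)} (g : E ⟶ Z) (a : Tw g) : Tw (bHom V g) :=
  let x : Γo E := Tw.out a
  Tw.mk (bHom V g) x

set_option maxHeartbeats 800000 in
set_option synthInstance.maxHeartbeats 80000 in
theorem bc_transfer (M : ModEt X) {Z E : EtOver (hV V)} (g : E ⟶ Z) (h : BC (RM V M) g) :
    BC M (bHom V g) := by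
  let u : Tw (bHom V g) ⊗[Γo (bObj V Z)] sectModEt M (bObj V Z) →+ Tw g ⊗[Γo Z] sectModEt (RM V M) Z :=
    TensorProduct.liftAddHom
      { toFun := fun a =>
          { toFun := fun n => twU V g a ⊗ₜ[Γo Z] (σ V M Z).symm n
            map_zero' := by rw [AddEquiv.map_zero, tmul_zero]
            map_add' := fun n n' => by rw [AddEquiv.map_add, tmul_add] }
        map_zero' := AddMonoidHom.ext fun n => zero_tmul _ _
        map_add' := fun a b => AddMonoidHom.ext fun n => add_tmul (twU V g a) (twU V g b) _ }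
      (fun r a n => by
        show twU V g (r • a) ⊗ₜ[Γo Z] (σ V M Z).symm n = twU V g a ⊗ₜ[Γo Z] (σ V M Z).symm (r • n)
        rw [τ_smul, ← smul_tmul]
        rfl)
  let v : Tw g ⊗[Γo Z] sectModEt (RM V M) Z →+ Tw (bHom V g) ⊗[Γo (bObj V Z)] sectModEt M (bObj V Z) :=
    TensorProduct.liftAddHom
      { toFun := fun a =>
          { toFun := fun n => twV V g a ⊗ₜ[Γo (bObj V Z)] σ V M Z n
            map_zero' := by rw [AddEquiv.map_zero, tmul_zero]
            map_add' := fun n n' => by rw [AddEquiv.map_add, tmul_add] }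
        map_zero' := AddMonoidHom.ext fun n => zero_tmul _ _
        map_add' := fun a b => AddMonoidHom.ext fun n =>
          add_tmul (twV V g a) (twV V g b) _ }
      (fun r a n => by
        show twV V g (r • a) ⊗ₜ[Γo (bObj V Z)] σ V M Z n =
          twV V g a ⊗ₜ[Γo (bObj V Z)] σ V M Z (r • n)
        rw [σ_smul, ← smul_tmul]
        rfl)
  have huv : ∀ z, u (v z) = z := fun z => by
    induction z using TensorProduct.induction_on with
    | zero => rw [map_zero, map_zero]
    | tmul a n =>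
      show twU V g a ⊗ₜ[Γo Z] (σ V M Z).symm (σ V M Z n) = a ⊗ₜ[Γo Z] n
      rw [AddEquiv.symm_apply_apply]
      rfl
    | add x y hx hy => rw [map_add, map_add, hx, hy]
  have hvu : ∀ z, v (u z) = z := fun z => by
    induction z using TensorProduct.induction_on with
    | zero => rw [map_zero, map_zero]
    | tmul a n =>
      show twV V g a ⊗ₜ[Γo (bObj V Z)] σ V M Z ((σ V M Z).symm n) = a ⊗ₜ[Γo (bObj V Z)] n
      rw [AddEquiv.apply_symm_apply]
      rfl
    | add x y hx hy => rw [map_add, map_add, hx, hy]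
  have key : ∀ z, σ V M E (lift g (LinearMap.id : sectModEt (RM V M) Z →ₗ[Γo Z] _) z) =
      lift (bHom V g) (LinearMap.id : sectModEt M (bObj V Z) →ₗ[Γo (bObj V Z)] _) (v z) := fun z => by
    induction z using TensorProduct.induction_on with
    | zero => rw [map_zero, map_zero, map_zero, map_zero]
    | tmul a n =>
      show σ V M E (lift g LinearMap.id (a ⊗ₜ[Γo Z] n)) =
        lift (bHom V g) LinearMap.id (twV V g a ⊗ₜ[Γo (bObj V Z)] σ V M Z n)
      rw [lift_tmul, lift_tmul, σ_smul, LinearMap.id_apply, LinearMap.id_apply, σ_res]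
      rfl
    | add x y hx hy => rw [map_add, map_add, map_add, map_add, hx, hy]
  refine ⟨fun x y e => ?_, fun w => ?_⟩
  · have h1 : σ V M E (lift g LinearMap.id (u x)) = σ V M E (lift g LinearMap.id (u y)) := by
      rw [key, key, hvu, hvu]; exact e
    rw [← hvu x, ← hvu y, h.1 ((σ V M E).injective h1)]
  · obtain ⟨z, hz⟩ := h.2 ((σ V M E).symm w)
    exact ⟨v z, (key z).symm.trans ((congrArg (σ V M E) hz).trans ((σ V M E).apply_symm_apply w))⟩

/-- Descent of goodness from the slice. -/
theorem good_of_slice (M : ModEt X)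
    (h : ∀ (E : EtOver (hV V)) [IsAffine E.obj.left.left], Good ((R V).obj ((resModEt V).obj M)) E)
    (Z : EtOver X) [IsAffine Z.obj.left.left] (k : Z ⟶ V) : Good M Z := by
  have hb : Good M (bObj V (gObj V k)) := by
    intro E _ g
    let a : E ⟶ V := g ≫ bMap V (gObj V k)
    let g' : gObj V a ⟶ gObj V k := EtOver.homMk g.hom.left (by
      show (yon S).map g.hom.left ≫ (yon S).map k.hom.left = (yon S).map (g.hom.left ≫ (bMap V (gObj V k)).hom.left)
      rw [Functor.map_comp, map_bMap]
      rfl)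
    haveI : IsAffine (gObj V k).obj.left.left := ‹IsAffine Z.obj.left.left›
    haveI : IsAffine (gObj V a).obj.left.left := ‹IsAffine E.obj.left.left›
    have h1 : BC M (bHom V g') := bc_transfer V M g' (h (gObj V k) g')
    have h2 : BC M (gIn V a) := bc_of_inv _ (gOut V a) (gIn_gOut V a) (gOut_gIn V a)
    have e : gIn V a ≫ bHom V g' = g := EtOver.hom_ext _ _ (Category.id_comp _)
    exact e ▸ h1.comp h2
  exact hb.of_hom (gIn V k)

theorem isQuasicoherent_HDMod (m : ℤ) (K : DModEt X) (hK : IsPseudoCoherentEtD m K) (i : ℤ) (hi : m < i) :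
    (DCoh.HDMod (OEtRing X) K i).IsQuasicoherent := by
  refine isQuasicoherent_of_good fun E _ => ?_
  obtain ⟨ι, V, g, hg, hP⟩ := hK E
  refine Good.of_local (Sieve.ofArrows V g) (Precoverage.generate_mem_toGrothendieck hg) fun Y _ k hk => ?_
  obtain ⟨j, k', rfl⟩ := (Sieve.mem_ofArrows_iff _ _ _).1 hk
  obtain ⟨P, α, hsp, hiso, -⟩ := hP j
  haveI := hiso i hi
  let F := resModEt (V j)
  obtain ⟨C, ⟨eC⟩⟩ := DerivedCategory.Q.objObjPreimageIso K |> fun e => (⟨_, ⟨e⟩⟩ : ∃ C, Nonempty (DerivedCategory.Q.obj C ≅ K))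
  let e : F.obj (DCoh.HDMod (OEtRing X) K i) ≅ P.homology i :=
    F.mapIso ((DerivedCategory.homologyFunctor (ModEt X) i).mapIso eC.symm ≪≫
      (DerivedCategory.homologyFunctorFactors (ModEt X) i).app C) ≪≫
    ((C.sc i).mapHomologyIso F).symm ≪≫
    ((DerivedCategory.homologyFunctorFactors (ModEtOn (V j)) i).app ((F.mapHomologicalComplex _).obj C)).symm ≪≫
    (DerivedCategory.homologyFunctor (ModEtOn (V j)) i).mapIso
      ((F.mapDerivedCategoryFactors.app C).symm ≪≫ F.mapDerivedCategory.mapIso eC) ≪≫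
    (asIso ((DerivedCategory.homologyFunctor (ModEtOn (V j)) i).map α)).symm ≪≫
    (DerivedCategory.homologyFunctorFactors (ModEtOn (V j)) i).app P
  exact good_of_slice (V j) _ (fun Z _ => good_of_iso ((R (V j)).mapIso e) (good_R_homology (V j) P hsp i Z)) Y k'

end Groth.Agent.PCohQC13
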