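import Groth.Prelude.Def_AlgSpPerf
import Groth.Agent.Lib.QcohEt15.Colim.Site
import Mathlib.Algebra.Category.ModuleCat.Sheaf.PushforwardContinuous

/-! The slice site over an object against the small site of that object. -/

universe u

open CategoryTheory CategoryTheory.Limits AlgebraicGeometry Opposite

set_option linter.style.haveILetI false
set_option backward.isDefEq.respectTransparency false
set_option backward.isDefEq.respectTransparency.types false

noncomputable section

namespace Groth.Agent.PCohQC13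

open AlgSp Groth.Agent.QcohEt15

variable {S : Scheme.{u}} {X : Sp S} (V : EtOver X)

/-- The sheaf of the scheme of `V`. -/
abbrev hV : Sp S := (yon S).obj V.obj.left

/-- An object over `V` as an object of the site of `X`. -/
def bObj (E : EtOver (hV V)) : EtOver X :=
  EtOver.mk (E.obj.hom ≫ V.obj.hom) ((repWith_isMultiplicative (S := S) @Etale).comp_mem _ _ E.property V.property)

/-- Its map to `V`. -/
def bMap (E : EtOver (hV V)) : bObj V E ⟶ V :=
  EtOver.homMk ((yon S).preimage E.obj.hom) (by rw [Functor.map_preimage]; rfl)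

theorem map_bMap (E : EtOver (hV V)) : (yon S).map (bMap V E).hom.left = E.obj.hom := (yon S).map_preimage _

/-- A morphism over `V`. -/
def bHom {E E' : EtOver (hV V)} (g : E ⟶ E') : bObj V E ⟶ bObj V E' :=
  EtOver.homMk g.hom.left (by
    show (yon S).map g.hom.left ≫ E'.obj.hom ≫ V.obj.hom = E.obj.hom ≫ V.obj.hom
    rw [← Category.assoc, EtOver.w g])

theorem bHom_bMap {E E' : EtOver (hV V)} (g : E ⟶ E') : bHom V g ≫ bMap V E' = bMap V E :=
  EtOver.hom_ext _ _ ((yon S).map_injective (by
    show (yon S).map (g.hom.left ≫ (bMap V E').hom.left) = _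
    rw [Functor.map_comp, map_bMap, map_bMap]
    exact EtOver.w g))

/-- The site of `V` as the slice. -/
def H : EtOver (hV V) ⥤ Over V where
  obj E := Over.mk (bMap V E)
  map g := Over.homMk (bHom V g) (bHom_bMap V g)
  map_id E := Over.OverMorphism.ext (EtOver.hom_ext _ _ rfl)
  map_comp g g' := Over.OverMorphism.ext (EtOver.hom_ext _ _ rfl)

/-- An object of the slice as an object of the site of `V`. -/
abbrev gObj {A : EtOver X} (a : A ⟶ V) : EtOver (hV V) :=
  haveI := EtOver.etale_left a
  EtOver.mk (X := hV V) ((yon S).map a.hom.left) ((repWith_yon_map_iff (P := @Etale) _).2 (EtOver.etale_left a))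

/-- The identification. -/
def gIn {A : EtOver X} (a : A ⟶ V) : A ⟶ bObj V (gObj V a) :=
  EtOver.homMk (𝟙 A.obj.left) (by
    show (yon S).map (𝟙 _) ≫ (yon S).map a.hom.left ≫ V.obj.hom = A.obj.hom
    rw [CategoryTheory.Functor.map_id, Category.id_comp]; exact EtOver.w a)

/-- The identification, backwards. -/
def gOut {A : EtOver X} (a : A ⟶ V) : bObj V (gObj V a) ⟶ A :=
  EtOver.homMk (𝟙 A.obj.left) (by
    show (yon S).map (𝟙 _) ≫ A.obj.hom = (yon S).map a.hom.left ≫ V.obj.hom
    rw [CategoryTheory.Functor.map_id, Category.id_comp]; exact (EtOver.w a).symm)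

theorem gIn_bMap {A : EtOver X} (a : A ⟶ V) : gIn V a ≫ bMap V (gObj V a) = a :=
  EtOver.hom_ext _ _ ((yon S).map_injective (by
    show (yon S).map (𝟙 _ ≫ (bMap V (gObj V a)).hom.left) = _
    rw [Category.id_comp, map_bMap]
    rfl))

theorem gOut_comp {A : EtOver X} (a : A ⟶ V) : gOut V a ≫ a = bMap V (gObj V a) :=
  EtOver.hom_ext _ _ ((yon S).map_injective (by
    show (yon S).map (𝟙 _ ≫ a.hom.left) = _
    rw [Category.id_comp, map_bMap]
    rfl))

theorem gIn_gOut {A : EtOver X} (a : A ⟶ V) : gIn V a ≫ gOut V a = 𝟙 A :=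
  EtOver.hom_ext _ _ (Category.id_comp _)

theorem gOut_gIn {A : EtOver X} (a : A ⟶ V) : gOut V a ≫ gIn V a = 𝟙 _ :=
  EtOver.hom_ext _ _ (Category.id_comp _)

instance : (H V).Faithful where
  map_injective {E E'} g g' h := EtOver.hom_ext _ _ (congrArg (fun k => k.left.hom.left) h)

instance : (H V).Full where
  map_surjective {E E'} m := by
    refine ⟨EtOver.homMk m.left.hom.left ?_, Over.OverMorphism.ext (EtOver.hom_ext _ _ rfl)⟩
    let n : bObj V E ⟶ bObj V E' := m.left
    have h : n ≫ bMap V E' = bMap V E := Over.w m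
    show (yon S).map n.hom.left ≫ E'.obj.hom = E.obj.hom
    exact (congrArg ((yon S).map n.hom.left ≫ ·) (map_bMap V E').symm).trans (((yon S).map_comp _ _).symm.trans
      ((congrArg (fun k : bObj V E ⟶ V => (yon S).map k.hom.left) h).trans (map_bMap V E)))

instance : (H V).EssSurj where
  mem_essImage A := ⟨gObj V A.hom,
    ⟨Over.isoMk (Iso.mk (gOut V A.hom) (gIn V A.hom) (gOut_gIn V A.hom) (gIn_gOut V A.hom)) (gOut_comp V A.hom)⟩⟩

instance : (H V).IsEquivalence where

theorem coverPreserving_H : CoverPreserving (etTop (hV V)) ((etTop X).over V) (H V) := by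
  refine ⟨fun {E R} hR => ?_⟩
  rw [GrothendieckTopology.mem_over_iff, Colim.mem_etTop_iff]
  intro x
  obtain ⟨Y, g, hg, hx⟩ := Colim.mem_etTop_iff.1 hR x
  exact ⟨_, bHom V g, (Sieve.overEquiv_iff _ _).2
    ⟨Y, g, Over.homMk (𝟙 _) ((Category.id_comp _).trans (bHom_bMap V g).symm), hg,
      Over.OverMorphism.ext (Category.id_comp _).symm⟩, hx⟩

instance : (H V).IsContinuous (etTop (hV V)) ((etTop X).over V) :=
  Functor.isContinuous_of_coverPreserving (compatiblePreservingOfFlat _ _) (coverPreserving_H V)

instance : (H V).IsCocontinuous (etTop (hV V)) ((etTop X).over V) where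
  cover_lift {E R} hR := by
    rw [GrothendieckTopology.mem_over_iff, Colim.mem_etTop_iff] at hR
    refine Colim.mem_etTop_iff.2 fun x => ?_
    obtain ⟨Y, g, hg, y, hy⟩ := hR x
    let a : Y ⟶ V := g ≫ bMap V E
    let k : gObj V a ⟶ E := EtOver.homMk g.hom.left (by
      show (yon S).map g.hom.left ≫ E.obj.hom = (yon S).map (g.hom.left ≫ (bMap V E).hom.left)
      rw [Functor.map_comp, map_bMap])
    refine ⟨gObj V a, k, ?_, y, hy⟩
    show R ((H V).map k)
    have h1 : Sieve.overEquiv _ R (gOut V a ≫ g) := Sieve.downward_closed _ hg (gOut V a)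
    have e : (gOut V a ≫ g : bObj V (gObj V a) ⟶ bObj V E) = bHom V k := EtOver.hom_ext _ _ (Category.id_comp _)
    rw [e] at h1
    have h2 := (Sieve.overEquiv_iff R (bHom V k)).1 h1
    let e' : (H V).obj (gObj V a) ⟶ Over.mk (bHom V k ≫ ((H V).obj E).hom) :=
      Over.homMk (𝟙 _) ((Category.id_comp _).trans (bHom_bMap V k))
    rw [show (H V).map k = e' ≫ (Over.homMk (bHom V k) : Over.mk (bHom V k ≫ ((H V).obj E).hom) ⟶ (H V).obj E) from
      Over.OverMorphism.ext (Category.id_comp _).symm]
    exact Sieve.downward_closed _ h2 e'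

/-- The comparison of rings. -/
def phi : OEtRing (hV V) ⟶
    ((H V).sheafPushforwardContinuous RingCat.{u + 1} (etTop (hV V)) ((etTop X).over V)).obj (OEtOn V) :=
  ⟨{ app := fun _ => 𝟙 _, naturality := fun _ _ _ => (Category.comp_id _).trans (Category.id_comp _).symm }⟩

instance : IsIso (phi V) :=
  ⟨⟨{ app := fun _ => 𝟙 _, naturality := fun _ _ _ => (Category.comp_id _).trans (Category.id_comp _).symm }⟩,
    by ext U x; rfl, by ext U x; rfl⟩

/-- Transport of modules to the site of `V`. -/
abbrev R : ModEtOn V ⥤ ModEt (hV V) := SheafOfModules.pushforward.{u + 1} (phi V)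

instance : (R V).IsLeftAdjoint := SheafOfModules.isLeftAdjoint_pushforward_of_isIso (phi V)

theorem R_comp_toSheaf : R V ⋙ SheafOfModules.toSheaf _ =
    SheafOfModules.toSheaf _ ⋙ (H V).sheafPushforwardContinuous AddCommGrpCat.{u + 1}
      (etTop (hV V)) ((etTop X).over V) := rfl

instance : PreservesFiniteLimits (R V) := by
  have h1 : PreservesFiniteLimits (R V ⋙ SheafOfModules.toSheaf.{u + 1} _) := by
    rw [R_comp_toSheaf]
    infer_instance
  have h2 : ReflectsFiniteLimits (SheafOfModules.toSheaf.{u + 1} (OEtRing (hV V))) := inferInstance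
  exact preservesFiniteLimits_of_reflects_of_preserves (R V) (SheafOfModules.toSheaf.{u + 1} _)

instance : PreservesFiniteColimits (R V) := inferInstance

instance : (R V).Additive where
  map_add := by intros; rfl

end Groth.Agent.PCohQC13
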